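import Cfsg.Agent.Comp.S44.Pres

set_option autoImplicit false
set_option maxRecDepth 100000

namespace Cfsg.Agent.Comp.S44
open Cfsg.Agent.Comp

noncomputable def n0 : Net :=
(Net.cons (nat_lit 0x17a4a084aa0) (nat_lit 43)
(Net.cons (nat_lit 0xbeaa0000004c800) (nat_lit 21)
(Net.cons (nat_lit 0xb2001ab800bdc00337) (nat_lit 11)
(Net.cons (nat_lit 0xa01a020090010080000d) (nat_lit 5)
(Net.cons (nat_lit 0x300c2080400c118431881) (nat_lit 3)
(Net.cons (nat_lit 0x101010840010100010920) (nat_lit 1)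
(Net.cons (nat_lit 0x212421082024240021242) (nat_lit 1)
(Net.cons (nat_lit 0x204241482005000108) (nat_lit 1)
(Net.cons (nat_lit 0x20021080000811c031880) (nat_lit 3)
(Net.cons (nat_lit 0xd809030020100380200f) (nat_lit 5)
(Net.cons (nat_lit 0x13d00188000d7c0033b) (nat_lit 11)
(Net.cons (nat_lit 0x3cd9000000c0600) (nat_lit 21)
(Net.cons (nat_lit 0x1be20090560) (nat_lit 43)
Net.nil)))))))))))))

noncomputable def n1 : Net :=
(Net.cons (nat_lit 0x1be20090560) (nat_lit 43)
(Net.cons (nat_lit 0x3cd9000000c0600) (nat_lit 21)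
(Net.cons (nat_lit 0x19800188000d7c0033b) (nat_lit 11)
(Net.cons (nat_lit 0xd00d060020100380000a) (nat_lit 5)
(Net.cons (nat_lit 0x200c10000008100031800) (nat_lit 3)
(Net.cons (nat_lit 0x1000041002000000100) (nat_lit 1)
(Net.cons (nat_lit 0x212421082024208021242) (nat_lit 1)
(Net.cons (nat_lit 0x8214a40490121010909) (nat_lit 1)
(Net.cons (nat_lit 0x30063104400c1044318a1) (nat_lit 3)
(Net.cons (nat_lit 0xa01a0040900100804007) (nat_lit 5)
(Net.cons (nat_lit 0x1a1001ab800bdc00337) (nat_lit 11)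
(Net.cons (nat_lit 0xbeaa0000004c800) (nat_lit 21)
(Net.cons (nat_lit 0x17a4a084aa0) (nat_lit 43)
Net.nil)))))))))))))

noncomputable def n2 : Net :=
(Net.cons (nat_lit 0x38580810a10) (nat_lit 43)
(Net.cons (nat_lit 0xdcb000000154088) (nat_lit 21)
(Net.cons (nat_lit 0x200000600008c8003d0) (nat_lit 11)
(Net.cons (nat_lit 0xa0000000600a0080c014) (nat_lit 5)
(Net.cons (nat_lit 0x200001044008018200802) (nat_lit 3)
(Net.cons (nat_lit 0x48010104210820) (nat_lit 1)
(Net.cons (nat_lit 0x212001092120208421242) (nat_lit 1)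
(Net.cons (nat_lit 0x40214048012124294820) (nat_lit 1)
(Net.cons (nat_lit 0x200001044008218200802) (nat_lit 3)
(Net.cons (nat_lit 0xa8030000e00a0280d014) (nat_lit 5)
(Net.cons (nat_lit 0x300000668008c8003d0) (nat_lit 11)
(Net.cons (nat_lit 0xdcb000000154088) (nat_lit 21)
(Net.cons (nat_lit 0x38580810a10) (nat_lit 43)
Net.nil)))))))))))))

noncomputable def n3 : Net :=
(Net.cons (nat_lit 0x2e000000000) (nat_lit 43)
(Net.cons (nat_lit 0xd809800000000000) (nat_lit 21)
(Net.cons (nat_lit 0x2950009100008000118) (nat_lit 11)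
(Net.cons (nat_lit 0xb0060300400802c02000) (nat_lit 5)
(Net.cons (nat_lit 0x20800004400c000210000) (nat_lit 3)
(Net.cons (nat_lit 0x108000041010124010000) (nat_lit 1)
(Net.cons (nat_lit 0x212401082020248420002) (nat_lit 1)
(Net.cons (nat_lit 0x948010049000124294000) (nat_lit 1)
(Net.cons (nat_lit 0x11000084410c008210080) (nat_lit 3)
(Net.cons (nat_lit 0x480e0700400802c03018) (nat_lit 5)
(Net.cons (nat_lit 0x2950009180011000118) (nat_lit 11)
(Net.cons (nat_lit 0xd809800000000000) (nat_lit 21)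
(Net.cons (nat_lit 0x2e000000000) (nat_lit 43)
Net.nil)))))))))))))

noncomputable def n4 : Net :=
(Net.cons (nat_lit 0x20a10000108) (nat_lit 43)
(Net.cons (nat_lit 0xdebe00000008200) (nat_lit 21)
(Net.cons (nat_lit 0x15a000610005c0000a9) (nat_lit 11)
(Net.cons (nat_lit 0x200e0500100000001012) (nat_lit 5)
(Net.cons (nat_lit 0x100000000000000600000) (nat_lit 3)
(Net.cons (nat_lit 0x9000000200020) (nat_lit 1)
(Net.cons (nat_lit 0x200001012004200400242) (nat_lit 1)
(Net.cons (nat_lit 0x800094a48480001214020) (nat_lit 1)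
(Net.cons (nat_lit 0x110a310c0080000600001) (nat_lit 3)
(Net.cons (nat_lit 0x600e0680281700003012) (nat_lit 5)
(Net.cons (nat_lit 0x15a0001f000dc0000a9) (nat_lit 11)
(Net.cons (nat_lit 0xdebe00000008200) (nat_lit 21)
(Net.cons (nat_lit 0x20a10000108) (nat_lit 43)
Net.nil)))))))))))))

noncomputable def n5 : Net :=
(Net.cons (nat_lit 0x226024e0a18) (nat_lit 43)
(Net.cons (nat_lit 0xc1640000009f800) (nat_lit 21)
(Net.cons (nat_lit 0x1f00008880042800140) (nat_lit 11)
(Net.cons (nat_lit 0x20120000f8160000a011) (nat_lit 5)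
(Net.cons (nat_lit 0x8c00006000300010001) (nat_lit 3)
(Net.cons (nat_lit 0x9000048000000010001) (nat_lit 1)
(Net.cons (nat_lit 0x12420092100200421242) (nat_lit 1)
(Net.cons (nat_lit 0x9000241400800010001) (nat_lit 1)
(Net.cons (nat_lit 0x108c108010043000300e3) (nat_lit 3)
(Net.cons (nat_lit 0x781b0080f81e0000a011) (nat_lit 5)
(Net.cons (nat_lit 0x590008880042800160) (nat_lit 11)
(Net.cons (nat_lit 0x8c1640000009f800) (nat_lit 21)
(Net.cons (nat_lit 0x226024e0a18) (nat_lit 43)
Net.nil)))))))))))))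

noncomputable def T : List Net := [n0, n1, n2, n3, n4, n5]

theorem ok : TOK 85 T := TOK_of_ok (by decide +kernel)

def E : List (List Nat × List Nat) :=
  []

theorem sat : Sat (sig T) R :=
  sat_of_relsP ok (by norm_num) (show relsP (nat_lit 85) (nat_lit 7) (nat_lit 0) (nat_lit 7) T R = true by decide +kernel)

theorem eqs : ∀ e ∈ E, ev (sig T) e.1 = ev (sig T) e.2 := eqs_nil _

def lowW1 : List (List Nat) := [[0],
   [1],
   [2],
   [3],
   [4]]

def lowW2 : List (List Nat) := [[0],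
   [1],
   [2],
   [3]]

def lowW3 : List (List Nat) := [[0],
   [1],
   [2]]

def lowW4 : List (List Nat) := [[0],
   [1]]

theorem low_4 : 3 ≤ Nat.card (genW (sig T) lowW4) :=
  chain_step (W' := []) (b := 80) (n := 3) (m := 1) ok (le_of_subOK eqs (show subOK lowW4 [] E = true by decide +kernel)) (by decide +kernel)
    (le_ncard_of_orbGe ok (by norm_num) (show orbGe (nat_lit 85) (nat_lit 7) T lowW4 [0, 0] (nat_lit 80) (nat_lit 3) = true by decide +kernel))
    (chain_base ok [])

theorem low_3 : 12 ≤ Nat.card (genW (sig T) lowW3) :=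
  chain_step (W' := lowW4) (b := 84) (n := 4) (m := 3) ok (le_of_subOK eqs (show subOK lowW3 lowW4 E = true by decide +kernel)) (by decide +kernel)
    (le_ncard_of_orbGe ok (by norm_num) (show orbGe (nat_lit 85) (nat_lit 7) T lowW3 [2, 0, 0] (nat_lit 84) (nat_lit 4) = true by decide +kernel))
    low_4

theorem low_2 : 180 ≤ Nat.card (genW (sig T) lowW2) :=
  chain_step (W' := lowW3) (b := 1) (n := 15) (m := 12) ok (le_of_subOK eqs (show subOK lowW2 lowW3 E = true by decide +kernel)) (by decide +kernel)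
    (le_ncard_of_orbGe ok (by norm_num) (show orbGe (nat_lit 85) (nat_lit 7) T lowW2 [3, 0, 2, 0, 2, 3] (nat_lit 1) (nat_lit 15) = true by decide +kernel))
    low_3

theorem low_1 : 11520 ≤ Nat.card (genW (sig T) lowW1) :=
  chain_step (W' := lowW2) (b := 21) (n := 64) (m := 180) ok (le_of_subOK eqs (show subOK lowW1 lowW2 E = true by decide +kernel)) (by decide +kernel)
    (le_ncard_of_ivl (a := 21) ok (by norm_num) (show Nat.beq (grow T lowW1 [4, 0, 3, 0, 2, 0, 3, 2, 4, 0, 3, 0, 2] (pt (nat_lit 21))) (ivl (nat_lit 21) (nat_lit 64)) = true by decide +kernel))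
    low_2

theorem low : 979200 ≤ Nat.card (genW (sig T) (letters 6)) :=
  chain_step (W' := lowW1) (b := 0) (n := 85) (m := 11520) ok (le_of_subOK eqs (show subOK (letters 6) lowW1 E = true by decide +kernel)) (by decide +kernel)
    (le_ncard_of_ivl (a := 0) ok (by norm_num) (show Nat.beq (grow T (letters 6) [5, 0, 2, 0, 3, 0, 4, 5, 0, 2, 4, 3, 0, 2, 3, 4] (pt (nat_lit 0))) (ivl (nat_lit 0) (nat_lit 85)) = true by decide +kernel))
    low_1


end Cfsg.Agent.Comp.S44
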