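import Cfsg.Agent.Comp.S44.Up
import Cfsg.Agent.Comp.S44.Nets

set_option autoImplicit false
set_option maxRecDepth 100000

namespace Cfsg.Agent.Comp.S44
open Cfsg.Agent.Comp

def W0 : List (List Nat) := [[0],
[1],
[2],
[3],
[4]]

noncomputable def phi : G →* Equiv.Perm ℕ := (pres.rep ok sat).choose

theorem rep : Rep s 6 85 T phi := (pres.rep ok sat).choose_spec

theorem trans : ∀ i < 85, ∃ g, phi g 0 = i :=
  rep.trans (sch := [5, 0, 2, 0, 3, 0, 4, 5, 0, 2, 4, 3, 0, 2, 3, 4]) (by decide +kernel)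

theorem stab : (genW s W0).index = 85 ∧ ∀ g, g ∈ genW s W0 ↔ phi g 0 = 0 :=
  rep.stab_eq (by decide +kernel) (by norm_num) trans (by decide +kernel) (Top.index _ s pres.sat)

theorem orb1 : MulAction.orbit (genW (sig T) W0) 1 = Set.Ico 1 (1 + 20) ∧
    (MulAction.orbit (genW (sig T) W0) 1).ncard = 20 :=
  orbit_ivl (sch := [3, 0, 2, 4, 0, 4, 3]) ok (by norm_num) (by norm_num) (by decide +kernel) (by decide +kernel)

theorem orb21 : MulAction.orbit (genW (sig T) W0) 21 = Set.Ico 21 (21 + 64) ∧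
    (MulAction.orbit (genW (sig T) W0) 21).ncard = 64 :=
  orbit_ivl (sch := [4, 0, 3, 0, 2, 0, 3, 2, 4, 0, 3, 0, 2]) ok (by norm_num) (by norm_num) (by decide +kernel) (by decide +kernel)

namespace Col

noncomputable def t0 : Tr := (Tr.node (nat_lit 0) (Tr.leaf (nat_lit 0x82a1247fffffffff8e7c6aa0148a98540027ffffffffffffffff889ffffffe013fff8157ffffff8698f53ffe2d70098c53ffe2dd8098668143fffffffffc027fff8a8885c02209cffffffc3a7fff888fffc0b8011fffffffffffff8689047ffffff008ffffffffff84890444a3fff1ef8047ffffff4a8044c021fff0317fffffffff4881343ffe010fffffffffffff468134bffe2110087fffffffff4481040321ffffff8043ffe2574281643ffffff2887fffffe0104081543ffe512228fffc0200520007ffc8a05103281140c205d0))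
(Tr.leaf (nat_lit 0x7ffffffffffffffffffffff0007ffffffffffffffffffffff0007ffffffffffffffffffffff0007ffffffffffffffffffffff0007ffffffffffffffffffffff0007ffffffffffffffffffffff0007ffffffffffffffffffffff0007ffffffffffffffffffffff0007ffffffffffffffffffffff0007ffffffffffffffffffffff8aa837402a056ffffffc141fff82a8b53fffffffff86700c601580a8c7fffffffffffffc02bfff8aa057002805bfff8293ffffff88a0747ffe014fffffffffffff84a0a73ffe257fff8053ffe11d)))

noncomputable def T : Tr := t0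

def RT : List (List (List Nat)) := [
  [[nat_lit 0],
   [nat_lit 1, nat_lit 1]],
  [[nat_lit 4, nat_lit 5, nat_lit 3, nat_lit 2],
   [nat_lit 1],
   [nat_lit 0, nat_lit 0]],
  [[nat_lit 3, nat_lit 5, nat_lit 4, nat_lit 1],
   [nat_lit 4, nat_lit 2, nat_lit 4],
   [nat_lit 2],
   [nat_lit 0, nat_lit 2, nat_lit 0, nat_lit 2, nat_lit 0]],
  [[nat_lit 5, nat_lit 3, nat_lit 5],
   [nat_lit 5, nat_lit 4, nat_lit 1, nat_lit 2],
   [nat_lit 3]],
  [[nat_lit 5, nat_lit 3, nat_lit 2, nat_lit 0],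
   [nat_lit 5, nat_lit 4, nat_lit 5],
   [nat_lit 4],
   [nat_lit 2, nat_lit 4, nat_lit 2]],
  [[nat_lit 4, nat_lit 5, nat_lit 4],
   [nat_lit 4, nat_lit 1, nat_lit 2, nat_lit 3],
   [nat_lit 5]],
  [[nat_lit 5, nat_lit 1, nat_lit 2, nat_lit 5, nat_lit 2, nat_lit 0, nat_lit 5, nat_lit 2],
   [nat_lit 4, nat_lit 4],
   [nat_lit 3, nat_lit 3],
   [nat_lit 5, nat_lit 5],
   [nat_lit 2, nat_lit 2],
   [nat_lit 0, nat_lit 1],
   [nat_lit 4, nat_lit 1, nat_lit 2, nat_lit 0, nat_lit 4, nat_lit 1, nat_lit 2, nat_lit 0],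
   [nat_lit 3, nat_lit 2, nat_lit 3, nat_lit 2, nat_lit 3, nat_lit 2],
   [nat_lit 1, nat_lit 0],
   [nat_lit 3, nat_lit 0, nat_lit 4, nat_lit 1, nat_lit 3, nat_lit 4, nat_lit 1, nat_lit 3, nat_lit 0, nat_lit 4]]]

def HT : List (List (Nat × Nat × Nat)) := [
  [(0, 1, 0), (1, 7, 0)],
  [(0, 0, 4), (0, 1, 1), (0, 7, 0)],
  [(1, 0, 3), (0, 11, 1), (0, 3, 0), (0, 8, 0)],
  [(0, 13, 1), (1, 0, 4), (0, 4, 0)],
  [(0, 0, 0), (0, 14, 1), (0, 5, 0), (0, 11, 0)],
  [(0, 14, 0), (1, 0, 0), (0, 6, 0)],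
  [(0, 15, 3), (0, 5, 0), (0, 4, 0), (0, 6, 0), (0, 3, 0), (0, 1, 0), (0, 12, 1), (0, 9, 1), (0, 1, 1), (0, 16, 9)]]

def R : List (List Nat) :=
  [[5, 3, 2, 0, 4],
   [0, 1],
   [1, 0],
   [2, 2],
   [3, 3],
   [4, 4],
   [5, 5],
   [0, 0, 0],
   [0, 2, 0, 2, 0, 2],
   [2, 3, 2, 3, 2, 3],
   [0, 2, 1, 3, 2, 1, 3, 0, 2, 3],
   [2, 4, 2, 4],
   [0, 4, 1, 2, 0, 4, 1, 2],
   [3, 5, 3, 5],
   [4, 5, 4, 5],
   [0, 5, 2, 5, 1, 2, 5, 2],
   [0, 4, 1, 3, 4, 1, 3, 0, 4, 3],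
   [0, 2, 3, 1, 4, 1, 3, 2, 5, 0, 2, 3, 1, 4, 1, 3, 2, 5]]

def W : List (List Nat) := []

noncomputable def P : Par := ⟨T, (nat_lit 4), (nat_lit 15), (nat_lit 104), (nat_lit 13), (nat_lit 8191), (nat_lit 6), (nat_lit 63), (nat_lit 6), (nat_lit 17), (nat_lit 48), (nat_lit 0x398a418801), RT⟩

noncomputable def J0 : List Nat := [
  nat_lit 0x4b0020c404f0022c4c570022c44f0022c414a00087184118c008b1548008b104128464a118002a7184104530022c410546518012315a8008310610415e8008b11720032c4104185860022c4117e0038c41041061045f800d710410629480030c418465800c71041847e52001071046b0022c45c800c710410610411781780067c41041061724e00041c41046f0021c410466000c7185786a4e13800203106104106188a0030c5a98a0031c4830020c41648008b184830022c4107e52461380086c410558000c7106104104104106116c0033c6123c008717e0720014f10410457800cb1,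
  nat_lit 0x1960020c418415e00033c411ac0031c41041061045b800cf104192561680103105b93800103185c95a0032c4184104105f9920035c618e0008b1628008b10410483000d310609480010310415a00031c617625a088a92002031041041041041041041041041041041041041041041041041041041041041041041041041041041041041041041041041041041041]

theorem c0 : chk T (nat_lit 4) (nat_lit 15) (nat_lit 104) (nat_lit 13) (nat_lit 8191) (nat_lit 6) (nat_lit 63) (nat_lit 6) (nat_lit 17) (nat_lit 48) (nat_lit 0x398a418801) (nat_lit 4) (nat_lit 15) RT (nat_lit 16) J0 (nat_lit 16) = true := by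
  decide +kernel

theorem r0 : P.RowsOK 16 48 := chk_sound P _ _ _ J0 _ _ (by decide +kernel) c0

theorem index.{u} : IndexLe.{u} 6 R W 1 :=
  indexLe_of_cert P HT (by decide +kernel)
    (show P.RowsOK 16 48 from r0)

end Col

theorem card : Finite G ∧ Nat.card G = 979200 ∧ Function.Injective phi :=
  rep.card_eq up low

def primT : List (List Nat × List Nat) :=
  [([5, 0, 2, 5], [0, 4, 1, 3, 5, 1, 3, 0, 4, 1, 1, 3, 5]),
   ([5], [0, 1, 3, 0, 4, 1, 5, 0, 3, 1, 4, 3, 4, 5])]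

theorem prim_0 : Nat.beq (grow T ([5, 0, 2, 5] :: W0) [0, 4, 1, 3, 5, 1, 3, 0, 4, 1, 1, 3, 5] (pt (nat_lit 0))) (ivl (nat_lit 0) (nat_lit 85)) = true := by
  decide +kernel

theorem prim_1 : Nat.beq (grow T ([5] :: W0) [0, 1, 3, 0, 4, 1, 5, 0, 3, 1, 4, 3, 4, 5] (pt (nat_lit 0))) (ivl (nat_lit 0) (nat_lit 85)) = true := by
  decide +kernel

theorem prim : Prim (gen (sig T) 6) 0 :=
  prim_of_cert (W := W0) (ts := primT) (sch := [0, 2, 0, 3, 0, 4, 2, 3, 4, 0, 2, 3, 2]) ok (ok.genW_le _) (by norm_num) (genW_le_gen (by decide +kernel)) (by decide +kernel)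
    (fun t ht => ev_mem fun x hx => letter_mem_gen ((by decide +kernel : ∀ t ∈ primT, ∀ x ∈ t.1, x < 6) t ht x hx)) (by decide +kernel)
    (by simp only [primT, List.forall_mem_cons]; exact ⟨prim_0, prim_1, by simp⟩)

def XP : List (List Nat) := [[5, 3, 2, 0, 4, 5, 3, 2, 0, 4, 5, 3, 2, 0, 4, 5, 3, 2, 0, 4, 5, 3, 2, 0, 4, 5, 3, 2, 0, 4, 5, 3, 2, 0, 4, 5, 3, 2, 0, 4, 5, 3, 2, 0, 4, 5, 3, 2, 0, 4, 5, 3, 2, 0, 4, 5, 3, 2, 0, 4, 5, 3, 2, 0, 4, 5, 3, 2, 0, 4, 5, 3, 2, 0, 4, 5, 3, 2, 0, 4, 5, 3, 2, 0, 4]]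

theorem satX : Sat (sig T) XP :=
  sat_of_relsP ok (by norm_num) (show relsP (nat_lit 85) (nat_lit 7) (nat_lit 0) (nat_lit 7) T XP = true by decide +kernel)

theorem simple : IsSimpleGroup G :=
  rep.simple (m := 11520) (p := 17) (X := [[5, 3, 2, 0, 4]]) card.2.2 (by norm_num) (by norm_num) trans prim card.2.1 (by norm_num) pres.sat
    Col.index (by decide +kernel) (by decide +kernel) (satX.mono (by decide +kernel))


end Cfsg.Agent.Comp.S44
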