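import Cfsg.Agent.Comp.S44.Pres
import Cfsg.Agent.Comp.S44.Top

set_option autoImplicit false
set_option maxRecDepth 100000

namespace Cfsg.Agent.Comp.S44
open Cfsg.Agent.Comp

namespace Tk3

noncomputable def t0 : Tr := (Tr.leaf (nat_lit 0x1ffffffff001ffffffff001ffffffff001ffffffff001ffffffff001ffffffff001ffffffff001ffffffff001ffffffff001ffffffff001ffffffff001ffffffff001ffffffff861ffc28810821ffc08072001ffc19031))

noncomputable def T : Tr := t0

def RT : List (List (List Nat)) := [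
  [],
  [[nat_lit 0, nat_lit 0]],
  []]

def HT : List (List (Nat × Nat × Nat)) := [
  [],
  [(0, 2, 0)],
  []]

def R : List (List Nat) :=
  [[0, 1],
   [1, 0],
   [0, 0, 0]]

def W : List (List Nat) := []

noncomputable def P : Par := ⟨T, (nat_lit 4), (nat_lit 15), (nat_lit 44), (nat_lit 11), (nat_lit 2047), (nat_lit 5), (nat_lit 31), (nat_lit 2), (nat_lit 19), (nat_lit 32), (nat_lit 0x18801), RT⟩

noncomputable def J0 : List Nat := [
  nat_lit 0x124661111111111111111111111111111111111111111]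

theorem c0 : chk T (nat_lit 4) (nat_lit 15) (nat_lit 44) (nat_lit 11) (nat_lit 2047) (nat_lit 5) (nat_lit 31) (nat_lit 2) (nat_lit 19) (nat_lit 32) (nat_lit 0x18801) (nat_lit 2) (nat_lit 3) RT (nat_lit 16) J0 (nat_lit 16) = true := by
  decide +kernel

theorem r0 : P.RowsOK 16 32 := chk_sound P _ _ _ J0 _ _ (by decide +kernel) c0

theorem index.{u} : IndexLe.{u} 2 R W 3 :=
  indexLe_of_cert P HT (by decide +kernel)
    (show P.RowsOK 16 32 from r0)

end Tk3

theorem upK_3 : CardLe (genW s [[0], [1]]) 3 :=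
  CardLe.tc (V' := []) (n := 3) (m := 1) [0, 1] Tk3.index pres.sat (by decide +kernel) (by decide +kernel) (by decide +kernel) (cardLe_nil s)

namespace Tk2

noncomputable def t0 : Tr := (Tr.leaf (nat_lit 0xffffffffffff000ffffffffffff000ffffffffffff000ffffffffffff000ffffffffffff000ffffffffffff000ffffffffffff000ffffffffffff000ffffffffffff000ffffffffffff000ffffffffffff000ffffffffffff831fff052052011811fff073011073450fff010033032000fff031050030))

noncomputable def T : Tr := t0

def RT : List (List (List Nat)) := [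
  [[nat_lit 4]],
  [[nat_lit 0, nat_lit 0]],
  [[nat_lit 0, nat_lit 2, nat_lit 0, nat_lit 2, nat_lit 0]],
  []]

def HT : List (List (Nat × Nat × Nat)) := [
  [(2, 0, 0)],
  [(0, 3, 0)],
  [(0, 4, 0)],
  []]

def R : List (List Nat) :=
  [[0, 1],
   [1, 0],
   [2, 2],
   [0, 0, 0],
   [0, 2, 0, 2, 0, 2]]

def W : List (List Nat) := [[0],
   [1]]

noncomputable def P : Par := ⟨T, (nat_lit 4), (nat_lit 15), (nat_lit 60), (nat_lit 12), (nat_lit 4095), (nat_lit 5), (nat_lit 31), (nat_lit 3), (nat_lit 20), (nat_lit 32), (nat_lit 0x418801), RT⟩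

noncomputable def J0 : List Nat := [
  nat_lit 0x4d010912419a1111111111111111111111111111111111111111111111111]

theorem c0 : chk T (nat_lit 4) (nat_lit 15) (nat_lit 60) (nat_lit 12) (nat_lit 4095) (nat_lit 5) (nat_lit 31) (nat_lit 3) (nat_lit 20) (nat_lit 32) (nat_lit 0x418801) (nat_lit 2) (nat_lit 3) RT (nat_lit 16) J0 (nat_lit 16) = true := by
  decide +kernel

theorem r0 : P.RowsOK 16 32 := chk_sound P _ _ _ J0 _ _ (by decide +kernel) c0

theorem index.{u} : IndexLe.{u} 3 R W 4 :=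
  indexLe_of_cert P HT (by decide +kernel)
    (show P.RowsOK 16 32 from r0)

end Tk2

theorem upK_2 : CardLe (genW s [[0], [1], [2]]) 12 :=
  CardLe.tc (V' := [[0], [1]]) (n := 4) (m := 3) [0, 1, 2] Tk2.index pres.sat (by decide +kernel) (by decide +kernel) (by decide +kernel) upK_3

namespace Tk1

noncomputable def t0 : Tr := (Tr.leaf (nat_lit 0x7fffffffffffffffe8f9fff00e05f837c19ea3cfffc03209d09e847606dfff01f015c0b601680b7ffc1ec07a00b01f206bfff03a826c0b201580afffc07a05800a81e9869fff03c01e40ae01460a7ffc2ae07c00a01e18a7fff06d804c07803b6297ffc13401201d00e50a3fff02a0044070037418fffc1640360290045023fff06980d40220732387ffc02003401980c8001fff01880c00a0030))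

noncomputable def T : Tr := t0

def RT : List (List (List Nat)) := [
  [[nat_lit 5],
   [nat_lit 3, nat_lit 0, nat_lit 2, nat_lit 3, nat_lit 0, nat_lit 2, nat_lit 1, nat_lit 3, nat_lit 2]],
  [[nat_lit 0, nat_lit 0]],
  [[nat_lit 1, nat_lit 2, nat_lit 1, nat_lit 2, nat_lit 1],
   [nat_lit 0, nat_lit 2, nat_lit 0, nat_lit 2, nat_lit 0],
   [nat_lit 5],
   [nat_lit 3, nat_lit 2, nat_lit 3, nat_lit 2, nat_lit 3]],
  [[nat_lit 2, nat_lit 3, nat_lit 2, nat_lit 3, nat_lit 2],
   [nat_lit 0, nat_lit 2, nat_lit 1, nat_lit 3, nat_lit 2, nat_lit 1, nat_lit 3, nat_lit 0, nat_lit 2],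
   [nat_lit 0, nat_lit 2, nat_lit 3, nat_lit 0, nat_lit 2, nat_lit 1, nat_lit 3, nat_lit 2, nat_lit 1]],
  []]

def HT : List (List (Nat × Nat × Nat)) := [
  [(2, 0, 0), (0, 7, 6)],
  [(0, 4, 0)],
  [(1, 5, 1), (0, 5, 0), (2, 2, 0), (0, 6, 1)],
  [(0, 6, 0), (0, 7, 0), (0, 7, 7)],
  []]

def R : List (List Nat) :=
  [[0, 1],
   [1, 0],
   [2, 2],
   [3, 3],
   [0, 0, 0],
   [0, 2, 0, 2, 0, 2],
   [2, 3, 2, 3, 2, 3],
   [0, 2, 1, 3, 2, 1, 3, 0, 2, 3]]

def W : List (List Nat) := [[0],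
   [1],
   [2]]

noncomputable def P : Par := ⟨T, (nat_lit 4), (nat_lit 15), (nat_lit 78), (nat_lit 13), (nat_lit 8191), (nat_lit 5), (nat_lit 31), (nat_lit 4), (nat_lit 31), (nat_lit 32), (nat_lit 0xa418801), RT⟩

noncomputable def J0 : List Nat := [
  nat_lit 0x1190000ac8080221110031418408a0811010228222206284088a018a0c2228062980b162162c42108421]

theorem c0 : chk T (nat_lit 4) (nat_lit 15) (nat_lit 78) (nat_lit 13) (nat_lit 8191) (nat_lit 5) (nat_lit 31) (nat_lit 4) (nat_lit 31) (nat_lit 32) (nat_lit 0xa418801) (nat_lit 3) (nat_lit 7) RT (nat_lit 16) J0 (nat_lit 16) = true := by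
  decide +kernel

theorem r0 : P.RowsOK 16 32 := chk_sound P _ _ _ J0 _ _ (by decide +kernel) c0

theorem index.{u} : IndexLe.{u} 4 R W 15 :=
  indexLe_of_cert P HT (by decide +kernel)
    (show P.RowsOK 16 32 from r0)

end Tk1

theorem upK_1 : CardLe (genW s [[0], [1], [2], [3]]) 180 :=
  CardLe.tc (V' := [[0], [1], [2]]) (n := 15) (m := 12) [0, 1, 2, 3] Tk1.index pres.sat (by decide +kernel) (by decide +kernel) (by decide +kernel) upK_2

namespace Tk0

noncomputable def t0 : Tr := (Tr.node (nat_lit 1) (Tr.node (nat_lit 0) (Tr.leaf (nat_lit 0x4116ffff0229021f001600ad00ac4096ffff00ab029700aa011d00164016ffff0116031b00a90016019e4115ffff0826029c001500a800a74095ffff0715039d00a6011a00154015ffff00a5039800a40015019b3114ffff07990199001400a300a23094ffff0718041a00a1011700143014ffff0197021e00a0001401983193ffff019d0013009f009e009d3192ffff079b0012009c009b009a2191ffff071400110099009800972091ffff031200960193011200112011ffff029300950212001101931210ffff001000940111009300920000ffff00910090009001100090))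
(Tr.leaf (nat_lit 0x50a0ffff072f01a90231012e00205020ffff06ae00be0123002001af509fffff00bd01ad01ba012c001f501fffff0633072c01bb001f01ad521effff001e092b01bc05ab062b511effff00bc04b7001e00bb04b3511dffff019f022f001d02b500ba509cffff0830022801b40127001c501cffff00b905a701b8001c01a8511bffff079c0431001b00b800b7521affff001a0ba501b60aa50b25511affff00b600b5001a033000b44099ffff062302a301ae012200194019ffff022205a201b2001901a34118ffff06a100b3001800b200b14117ffff022000b0001700af00ae)))
(Tr.node (nat_lit 2) (Tr.leaf (nat_lit 0x61b2ffff00cb0032063f074709c361aeffff00ca002e033e06c50540622dffff002d00c902460446043c622affff002a00c8012b04bd054660aaffff06b500c7012c04b3002a6029ffff00c600c5012d002903356227ffff002700c408c109b6094160a6ffff084100c30127013700266026ffff0734052a03b0002601b86224ffff002400c2012500c10a3961a4ffff063b0024043303ba02296024ffff06b700c00128002403b051a1ffff05ac002104b5052a053b50a1ffff02b200bf0122013100215021ffff06b104a601af002101b251a0ffff07a800200437043402a4))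
(Tr.node (nat_lit 3) (Tr.leaf (nat_lit 0x914dffff03cf0e4f004d0c4f0bcf80caffff0a4c07ce074e0bcb004a8044ffff034d0d4c00cf00440ac980c2ffff0ace0dcd0ccc09480042723fffff003f0c4b06cb0bca0b4e723effff003e0cca03ca00ce0c4b71bdffff0b49003d08c40b4d09c471bcffff07c0003c08c8084209cc71bbffff0ec2003b07c7084306bf723affff003a034101bd04bc03bd71baffff0a43003a024505c0063e71b9ffff0ac4003909490a4900cd71b8ffff0ac500380643093f08c771b6ffff0e4700360c4200cc08c870b6ffff07b803c6083908b9003671b4ffff0848003402c004be0645))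
(Tr.leaf (nat_lit 0xffffffffffffffffffffffff0000ffffffffffffffffffffffff0000ffffffffffffffffffffffff0000ffffffffffffffffffffffff0000ffffffffffffffffffffffff0000ffffffffffffffffffffffff0000ffffffffffffffffffffffff0000ffffffffffffffffffffffff0000ffffffffffffffffffffffff0000ffffffffffffffffffffffff0000ffffffffffffffffffffffff0000ffffffffffffffffffffffff0000ffffffffffffffffffffffff0000ffffffffffffffffffffffff0000ffffffffffffffffffffffff804a0acbffff0850ffff004a014e)))))

noncomputable def T : Tr := t0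

def RT : List (List (List Nat)) := [
  [[nat_lit 6],
   [nat_lit 3, nat_lit 2, nat_lit 1, nat_lit 3, nat_lit 0, nat_lit 2, nat_lit 3, nat_lit 0, nat_lit 2],
   [nat_lit 1, nat_lit 1],
   [nat_lit 2, nat_lit 1, nat_lit 2, nat_lit 1, nat_lit 2],
   [nat_lit 3, nat_lit 0, nat_lit 2, nat_lit 3, nat_lit 0, nat_lit 2, nat_lit 1, nat_lit 3, nat_lit 2],
   [nat_lit 3, nat_lit 0, nat_lit 4, nat_lit 3, nat_lit 0, nat_lit 4, nat_lit 1, nat_lit 3, nat_lit 4],
   [nat_lit 2, nat_lit 0, nat_lit 4, nat_lit 1, nat_lit 2, nat_lit 0, nat_lit 4],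
   [nat_lit 0]],
  [[nat_lit 0, nat_lit 0],
   [nat_lit 2, nat_lit 3, nat_lit 0, nat_lit 2, nat_lit 1, nat_lit 3, nat_lit 2, nat_lit 1, nat_lit 3],
   [nat_lit 2, nat_lit 0, nat_lit 2, nat_lit 0, nat_lit 2],
   [nat_lit 4, nat_lit 1, nat_lit 2, nat_lit 0, nat_lit 4, nat_lit 1, nat_lit 2],
   [nat_lit 4, nat_lit 1, nat_lit 3, nat_lit 4, nat_lit 1, nat_lit 3, nat_lit 0, nat_lit 4, nat_lit 3]],
  [[nat_lit 4, nat_lit 2, nat_lit 4],
   [nat_lit 1, nat_lit 2, nat_lit 1, nat_lit 2, nat_lit 1],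
   [nat_lit 0, nat_lit 2, nat_lit 0, nat_lit 2, nat_lit 0],
   [nat_lit 6],
   [nat_lit 0, nat_lit 4, nat_lit 1, nat_lit 2, nat_lit 0, nat_lit 4, nat_lit 1],
   [nat_lit 3, nat_lit 2, nat_lit 3, nat_lit 2, nat_lit 3]],
  [[nat_lit 2, nat_lit 3, nat_lit 2, nat_lit 3, nat_lit 2],
   [nat_lit 0, nat_lit 2, nat_lit 1, nat_lit 3, nat_lit 2, nat_lit 1, nat_lit 3, nat_lit 0, nat_lit 2],
   [nat_lit 0, nat_lit 2, nat_lit 3, nat_lit 0, nat_lit 2, nat_lit 1, nat_lit 3, nat_lit 2, nat_lit 1],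
   [nat_lit 2, nat_lit 1, nat_lit 3, nat_lit 0, nat_lit 2, nat_lit 3, nat_lit 0, nat_lit 2, nat_lit 1],
   [nat_lit 6],
   [nat_lit 4, nat_lit 1, nat_lit 3, nat_lit 0, nat_lit 4, nat_lit 3, nat_lit 0, nat_lit 4, nat_lit 1],
   [nat_lit 0, nat_lit 4, nat_lit 3, nat_lit 0, nat_lit 4, nat_lit 1, nat_lit 3, nat_lit 4, nat_lit 1]],
  [[nat_lit 1, nat_lit 3, nat_lit 4, nat_lit 1, nat_lit 3, nat_lit 0, nat_lit 4, nat_lit 3, nat_lit 0],
   [nat_lit 2, nat_lit 4, nat_lit 2],
   [nat_lit 1, nat_lit 3, nat_lit 0, nat_lit 4, nat_lit 3, nat_lit 0, nat_lit 4, nat_lit 1, nat_lit 3],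
   [nat_lit 1, nat_lit 2, nat_lit 0, nat_lit 4, nat_lit 1, nat_lit 2, nat_lit 0],
   [nat_lit 3, nat_lit 0, nat_lit 4, nat_lit 1, nat_lit 3, nat_lit 4, nat_lit 1, nat_lit 3, nat_lit 0]],
  [[nat_lit 3, nat_lit 0, nat_lit 4, nat_lit 1, nat_lit 3, nat_lit 4, nat_lit 1, nat_lit 3, nat_lit 0, nat_lit 4]]]

def HT : List (List (Nat × Nat × Nat)) := [
  [(2, 0, 0), (0, 8, 3), (1, 5, 0), (1, 6, 0), (0, 8, 6), (0, 11, 6), (0, 10, 3), (0, 0, 0)],
  [(0, 5, 0), (0, 8, 8), (0, 6, 1), (0, 10, 1), (0, 11, 1)],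
  [(0, 9, 1), (1, 6, 1), (0, 6, 0), (2, 2, 0), (0, 10, 0), (0, 7, 1)],
  [(0, 7, 0), (0, 8, 0), (0, 8, 7), (0, 8, 4), (2, 3, 0), (0, 11, 4), (0, 11, 7)],
  [(0, 11, 2), (0, 9, 0), (0, 11, 5), (0, 10, 2), (0, 11, 9)],
  [(0, 11, 9)]]

def R : List (List Nat) :=
  [[0, 1],
   [1, 0],
   [2, 2],
   [3, 3],
   [4, 4],
   [0, 0, 0],
   [0, 2, 0, 2, 0, 2],
   [2, 3, 2, 3, 2, 3],
   [0, 2, 1, 3, 2, 1, 3, 0, 2, 3],
   [2, 4, 2, 4],
   [0, 4, 1, 2, 0, 4, 1, 2],
   [0, 4, 1, 3, 4, 1, 3, 0, 4, 3]]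

def W : List (List Nat) := [[0],
   [1],
   [2],
   [3]]

noncomputable def P : Par := ⟨T, (nat_lit 4), (nat_lit 15), (nat_lit 112), (nat_lit 16), (nat_lit 65535), (nat_lit 7), (nat_lit 127), (nat_lit 5), (nat_lit 80), (nat_lit 96), (nat_lit 0x18a418801), RT⟩

noncomputable def J0 : List Nat := [
  nat_lit 0x10c400013c40014c4010020841084c1018498001000854100084010008401084148184800c100848c1084140184801410084801084150184800010084801,
  nat_lit 0x840c10084141084114184810810084001040884100848c10841401848100100840c15084801040284108410018481001084c0c18480cc1,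
  nat_lit 0x30084c1084c08184900c10008541484c10130784c10020841084c00184900010200841484c00185100010020841800084100784010078401,
  nat_lit 0x6f08030a9030200f090204f08020010a8286f0902e44f082c6f08020c50b02c0f0982004908250c009f122484184900014840c81841a18150848c1,
  nat_lit 0x90834200000092c412041041041041041041041041041041041041041041041041041041041041041041041041041041041041041041041041041041041041041041041041041041041041041]

theorem c0 : chk T (nat_lit 4) (nat_lit 15) (nat_lit 112) (nat_lit 16) (nat_lit 65535) (nat_lit 7) (nat_lit 127) (nat_lit 5) (nat_lit 80) (nat_lit 96) (nat_lit 0x18a418801) (nat_lit 4) (nat_lit 15) RT (nat_lit 16) J0 (nat_lit 16) = true := by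
  decide +kernel

theorem r0 : P.RowsOK 16 96 := chk_sound P _ _ _ J0 _ _ (by decide +kernel) c0

theorem index.{u} : IndexLe.{u} 5 R W 64 :=
  indexLe_of_cert P HT (by decide +kernel)
    (show P.RowsOK 16 96 from r0)

end Tk0

theorem upK : CardLe (genW s [[0], [1], [2], [3], [4]]) 11520 :=
  CardLe.tc (V' := [[0], [1], [2], [3]]) (n := 64) (m := 180) [0, 1, 2, 3, 4] Tk0.index pres.sat (by decide +kernel) (by decide +kernel) (by decide +kernel) upK_1

theorem up : CardLe (gen s 6) 979200 := upK.step (Top.index _ s pres.sat)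

end Cfsg.Agent.Comp.S44
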